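import Groth.Agent.Lib.Dim.Ring
import Mathlib.RingTheory.KrullDimension.Module
import Mathlib.RingTheory.LocalRing.Module
import Mathlib.RingTheory.Flat.FaithfullyFlat.Basic
import Mathlib.LinearAlgebra.TensorProduct.RightExactness
import Mathlib.RingTheory.Spectrum.Prime.Module

/-!
Dimension of supports under base change.
-/

set_option autoImplicit false
universe u

open TensorProduct

namespace GrothLib.DevBC13

/-- The dimension of a finite type algebra over a field is invariant under field extension. -/
theorem ringKrullDim_baseChange (k K : Type u) [Field k] [Field K] [Algebra k K] (A : Type u)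
    [CommRing A] [Algebra k A] [Algebra.FiniteType k A] : ringKrullDim (K ⊗[k] A) = ringKrullDim A := by
  rcases subsingleton_or_nontrivial A with hA | hA
  · haveI : Subsingleton (K ⊗[k] A) := by
      refine subsingleton_of_forall_eq 0 fun x => ?_
      induction x using TensorProduct.induction_on with
      | zero => rfl
      | tmul c a => rw [Subsingleton.elim a 0, tmul_zero]
      | add x y hx hy => rw [hx, hy, add_zero]
    rw [ringKrullDim_eq_bot_of_subsingleton, ringKrullDim_eq_bot_of_subsingleton]
  obtain ⟨n, g, hinj, hfin⟩ := exists_finite_inj_algHom_of_fg k A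
  let φ : K ⊗[k] MvPolynomial (Fin n) k →ₐ[K] K ⊗[k] A := Algebra.TensorProduct.map (AlgHom.id K K) g
  have hφ : φ.toRingHom.Finite :=
    RingHom.Finite.tensorProductMap (f := AlgHom.id k K) (g := g) (RingHom.Finite.id K) hfin
  have hinj' : Function.Injective φ := by
    have := Module.Flat.lTensor_preserves_injective_linearMap (M := K) g.toLinearMap hinj
    exact this
  algebraize [φ.toRingHom, g.toRingHom]
  haveI : Module.Finite (MvPolynomial (Fin n) k) A := hfin
  haveI : Module.Finite (K ⊗[k] MvPolynomial (Fin n) k) (K ⊗[k] A) := hφ
  rw [GrothLib.Dim.ringKrullDim_eq_of_isIntegral (R := K ⊗[k] MvPolynomial (Fin n) k) hinj',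
    ringKrullDim_eq_of_ringEquiv (MvPolynomial.algebraTensorAlgEquiv k K).toRingEquiv,
    MvPolynomial.ringKrullDim_of_isNoetherianRing,
    GrothLib.Dim.ringKrullDim_eq_of_isIntegral (R := MvPolynomial (Fin n) k) hinj,
    MvPolynomial.ringKrullDim_of_isNoetherianRing, ringKrullDim_eq_zero_of_field, ringKrullDim_eq_zero_of_field]

/-- Support of a base change of a finite module. -/
theorem support_tensor {R A M : Type u} [CommRing R] [CommRing A] [Algebra R A] [AddCommGroup M]
    [Module R M] [Module.Finite R M] :
    Module.support A (A ⊗[R] M) = PrimeSpectrum.comap (algebraMap R A) ⁻¹' Module.support R M := by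
  ext P
  rw [Set.mem_preimage, Module.mem_support_iff_nontrivial_residueField_tensorProduct,
    Module.mem_support_iff_nontrivial_residueField_tensorProduct]
  let p := PrimeSpectrum.comap (algebraMap R A) P
  let κ := p.asIdeal.ResidueField
  let L := P.asIdeal.ResidueField
  letI : Algebra κ L := (Ideal.ResidueField.map p.asIdeal P.asIdeal (algebraMap R A) rfl).toAlgebra
  haveI : IsScalarTower R κ L := IsScalarTower.of_algebraMap_eq fun x => by
    rw [RingHom.algebraMap_toAlgebra]
    exact (IsScalarTower.algebraMap_apply R A L x).trans
      (Ideal.ResidueField.map_algebraMap (I := p.asIdeal) (J := P.asIdeal) (f := algebraMap R A) (hf := rfl) x).symm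
  rw [(AlgebraTensorModule.cancelBaseChange R A L L M).nontrivial_congr,
    ← (AlgebraTensorModule.cancelBaseChange R κ L L M).nontrivial_congr]
  exact Module.FaithfullyFlat.nontrivial_tensorProduct_iff_right κ L

/-- If the support is the zero locus of the kernel of a surjection, its dimension is that of the target. -/
theorem supportDim_eq_of_surjective {B C M : Type u} [CommRing B] [CommRing C] [AddCommGroup M]
    [Module B M] (ψ : B →+* C) (hψ : Function.Surjective ψ)
    (h : Module.support B M = PrimeSpectrum.zeroLocus (RingHom.ker ψ : Set B)) :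
    Module.supportDim B M = ringKrullDim C := by
  rw [← ringKrullDim_eq_of_ringEquiv (RingHom.quotientKerEquivOfSurjective hψ),
    ringKrullDim_quotient, Module.supportDim, h]

end GrothLib.DevBC13
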