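import Groth.Agent.Lib.DevBC13.Point
import Mathlib.RingTheory.IsTensorProduct
import Mathlib.Algebra.Category.Ring.Constructions

/-!
Base change of the data of a complete dévissage at a point.
-/

set_option autoImplicit false
set_option linter.unusedSectionVars false
universe u

open TensorProduct AlgebraicGeometry CategoryTheory

attribute [local instance] Algebra.TensorProduct.rightAlgebra

namespace GrothLib.DevBC13

open GrothLib.WeakAssFib

/-- A base change over the algebra is one over a ring below it. -/
theorem isBaseChange_over {R R' B B' A A' M M' : Type u} [CommRing R] [CommRing R'] [CommRing B] [CommRing B']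
    [CommRing A] [CommRing A'] [Algebra R R'] [Algebra R B] [Algebra R' B'] [Algebra B B'] [Algebra R B']
    [IsScalarTower R R' B'] [IsScalarTower R B B'] [Algebra R A] [Algebra R' A'] [Algebra A A'] [Algebra R A']
    [IsScalarTower R R' A'] [IsScalarTower R A A'] [Algebra B A] [IsScalarTower R B A] [Algebra B' A']
    [IsScalarTower R' B' A'] [Algebra B A'] [IsScalarTower B A A'] [IsScalarTower B B' A']
    [Algebra.IsPushout R R' B B'] [Algebra.IsPushout R R' A A']
    [AddCommGroup M] [Module A M] [Module B M] [IsScalarTower B A M]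
    [AddCommGroup M'] [Module A' M'] [Module A M'] [IsScalarTower A A' M'] [Module B' M'] [IsScalarTower B' A' M']
    [Module B M'] [IsScalarTower B B' M'] [IsScalarTower B A M']
    (g : M →ₗ[A] M') (hg : IsBaseChange A' g) : IsBaseChange B' (g.restrictScalars B) := by
  haveI : Algebra.IsPushout R B R' B' := Algebra.IsPushout.symm inferInstance
  haveI : IsScalarTower R B' A' := IsScalarTower.of_algebraMap_eq fun r => by
    rw [IsScalarTower.algebraMap_apply R R' A', IsScalarTower.algebraMap_apply R' B' A',
      ← IsScalarTower.algebraMap_apply R R' B']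
  haveI : Algebra.IsPushout B B' A A' :=
    Algebra.IsPushout.symm ((Algebra.IsPushout.comp_iff R B R' B').1 (Algebra.IsPushout.symm (inferInstance : Algebra.IsPushout R R' A A')))
  refine IsBaseChange.of_equiv
    ((Algebra.IsPushout.cancelBaseChange B B' A A' M).symm ≪≫ₗ hg.equiv.restrictScalars B') fun m => ?_
  simp [IsBaseChange.equiv_tmul, Algebra.IsPushout.cancelBaseChange_symm_tmul]

variable {R S R' S' : Type u} [CommRing R] [CommRing S] [Algebra R S]
  [CommRing R'] [CommRing S'] [Algebra R R'] [Algebra R' S'] [Algebra R S'] [Algebra S S']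
  [IsScalarTower R R' S'] [IsScalarTower R S S'] [Algebra.IsPushout R R' S S']
  (p : Ideal R) [p.IsPrime] (p' : Ideal R') [p'.IsPrime] [hp' : p'.LiesOver p]
  (hκ : Function.Bijective (Ideal.ResidueField.mapₐ p p' (Algebra.ofId R R') hp'.over))

include hκ in
/-- A prime over given points exists. -/
theorem exists_liesOver (q : Ideal S) [q.IsPrime] [q.LiesOver p] :
    ∃ q' : Ideal S', q'.IsPrime ∧ q'.LiesOver q ∧ q'.LiesOver p' := by
  obtain ⟨e, he⟩ := exists_fibre_ringEquiv (S := S) (S' := S') p p' hκ
  obtain ⟨P, hP, -⟩ := exists_fibre_point p q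
  let P' : PrimeSpectrum (p'.Fiber S') := PrimeSpectrum.comap e.symm.toRingHom P
  refine ⟨P'.asIdeal.comap (toFib p'), inferInstance, ⟨?_⟩, ⟨?_⟩⟩
  · ext s
    show s ∈ q ↔ e.symm (toFib p' (algebraMap S S' s)) ∈ P.asIdeal
    rw [← he, RingEquiv.symm_apply_apply, ← Ideal.mem_comap, hP]
  · exact ((PrimeSpectrum.primesOverOrderIsoFiber R' S' p').symm P').2.2.over

/-- Relative dimension along a pushout. -/
theorem smoothRelDim_pushout {B B' : Type u} [CommRing B] [CommRing B'] [Algebra R B] [Algebra R' B'] [Algebra R B']
    [Algebra B B'] [IsScalarTower R R' B'] [IsScalarTower R B B'] [Algebra.IsPushout R R' B B'] (n : ℕ)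
    (h : FlatCA.SmoothRelDim n R B) : FlatCA.SmoothRelDim n R' B' :=
  (smoothOfRelativeDimension_isStableUnderBaseChange n).of_isPullback
    (isPullback_SpecMap_of_isPushout _ _ _ _ (CommRingCat.isPushout_iff_isPushout.2 inferInstance)).flip h

end GrothLib.DevBC13
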