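import Groth.Agent.Lib.DevBC13.Complete
import Mathlib.RingTheory.TensorProduct.Quotient
import Mathlib.RingTheory.Smooth.Flat
import Groth.Agent.Lib.RGProj13.Devissage

/-!
Extended primes of smooth algebras with geometrically irreducible fibres under base change.
-/

set_option autoImplicit false
set_option linter.unusedSectionVars false
universe u

open TensorProduct

namespace GrothLib.DevBC13

theorem mem_map_of_tmul_eq_zero {R B K : Type u} [CommRing R] [CommRing B] [Algebra R B] [CommRing K] [Algebra R K]
    [Module.Flat R B] (p : Ideal R) (hker : RingHom.ker (algebraMap R K) = p) {b : B}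
    (h : (1 : K) ⊗ₜ[R] b = 0) : b ∈ p.map (algebraMap R B) := by
  let m : R ⧸ p →ₗ[R] K := Submodule.liftQ p (Algebra.linearMap R K) hker.ge
  have hm : Function.Injective m := by
    rw [← LinearMap.ker_eq_bot]
    exact Submodule.ker_liftQ_eq_bot _ _ _ hker.le
  have h1 : (Ideal.Quotient.mk p 1) ⊗ₜ[R] b = 0 :=
    Module.Flat.rTensor_preserves_injective_linearMap (M := B) m hm (by
      rw [LinearMap.rTensor_tmul, map_zero]
      show algebraMap R K 1 ⊗ₜ[R] b = 0
      rw [map_one]; exact h)
  have h2 : b ⊗ₜ[R] (1 : R ⧸ p) = 0 := by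
    rw [← TensorProduct.comm_tmul, show (1 : R ⧸ p) = Ideal.Quotient.mk p 1 from rfl, h1, map_zero]
  have h3 := congrArg (Algebra.TensorProduct.quotIdealMapEquivTensorQuot B p).symm h2
  rw [map_zero, show (1 : R ⧸ p) = Ideal.Quotient.mk p 1 from rfl] at h3
  refine Ideal.Quotient.eq_zero_iff_mem.1 ?_
  rw [← h3]
  refine (AlgEquiv.eq_symm_apply _).2 ?_
  exact Algebra.TensorProduct.quotIdealMapEquivTensorQuot_mk B p b

variable {R B : Type u} [CommRing R] [CommRing B] [Algebra R B] [Algebra.Smooth R B]

theorem map_isPrime (h : FlatCA.GeomIrredFibres R B) (p : Ideal R) [p.IsPrime] :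
    (p.map (algebraMap R B)).IsPrime := by
  haveI := GrothLib.RGProj13.isDomain_tensor (GrothLib.RGProj13.geomIntegral_of_smooth h) p.ResidueField
  let φ : B →+* p.ResidueField ⊗[R] B :=
    (Algebra.TensorProduct.includeRight : B →ₐ[R] p.ResidueField ⊗[R] B).toRingHom
  have hφ : RingHom.ker φ = p.map (algebraMap R B) := by
    refine le_antisymm (fun b hb => mem_map_of_tmul_eq_zero p (Ideal.ker_algebraMap_residueField p) hb)
      (Ideal.map_le_iff_le_comap.2 fun r hr => ?_)
    rw [Ideal.mem_comap, RingHom.mem_ker]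
    show (Algebra.TensorProduct.includeRight : B →ₐ[R] p.ResidueField ⊗[R] B) (algebraMap R B r) = 0
    rw [AlgHom.commutes, IsScalarTower.algebraMap_apply R p.ResidueField,
      Ideal.algebraMap_residueField_eq_zero.2 hr, map_zero]
  rw [← hφ]
  exact RingHom.ker_isPrime φ

variable {R' B' : Type u} [CommRing R'] [CommRing B'] [Algebra R R'] [Algebra R' B'] [Algebra R B'] [Algebra B B']
  [IsScalarTower R R' B'] [IsScalarTower R B B'] [Algebra.IsPushout R R' B B']
  (p : Ideal R) [p.IsPrime] (p' : Ideal R') [p'.IsPrime] [p'.LiesOver p]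

/-- The generic point of a fibre lies over the generic point of the fibre below. -/
theorem comap_map_eq : (p'.map (algebraMap R' B')).comap (algebraMap B B') = p.map (algebraMap R B) := by
  refine le_antisymm (fun b hb => ?_) ?_
  · let e : B' ≃ₐ[R'] R' ⊗[R] B := (Algebra.IsPushout.equiv R R' B B').symm
    let φ : B' →ₐ[R'] p'.ResidueField ⊗[R] B :=
      (Algebra.TensorProduct.lift (Algebra.ofId R' (p'.ResidueField ⊗[R] B))
        (Algebra.TensorProduct.includeRight : B →ₐ[R] p'.ResidueField ⊗[R] B) fun _ _ => Commute.all _ _).comp e.toAlgHom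
    have hker : RingHom.ker (algebraMap R p'.ResidueField) = p := by
      rw [IsScalarTower.algebraMap_eq R R' p'.ResidueField, ← RingHom.comap_ker,
        Ideal.ker_algebraMap_residueField]
      exact (Ideal.LiesOver.over (P := p') (p := p)).symm
    refine mem_map_of_tmul_eq_zero p hker ?_
    have h1 : φ (algebraMap B B' b) = (1 : p'.ResidueField) ⊗ₜ[R] b := by
      simp [φ, e, Algebra.IsPushout.equiv_symm_algebraMap_right]
    rw [← h1]
    have hle : p'.map (algebraMap R' B') ≤ RingHom.ker φ.toRingHom := Ideal.map_le_iff_le_comap.2 fun r hr => by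
      rw [Ideal.mem_comap, RingHom.mem_ker]
      show φ (algebraMap R' B' r) = 0
      rw [AlgHom.commutes, IsScalarTower.algebraMap_apply R' p'.ResidueField,
        Ideal.algebraMap_residueField_eq_zero.2 hr, map_zero]
    exact hle hb
  · rw [Ideal.map_le_iff_le_comap, Ideal.comap_comap, ← IsScalarTower.algebraMap_eq,
      IsScalarTower.algebraMap_eq R R' B', ← Ideal.comap_comap]
    exact (Ideal.LiesOver.over (P := p') (p := p)).le.trans (Ideal.comap_mono Ideal.le_comap_map)

end GrothLib.DevBC13
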