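import Groth.Agent.Lib.DevBC13.Step
import Groth.Agent.Lib.DevBC13.Prime

/-!
Families of base changed rings and modules, trivial beyond the length.
-/

set_option autoImplicit false
set_option linter.unusedSectionVars false
universe u

open TensorProduct

namespace GrothLib.DevBC13

attribute [local instance] Algebra.TensorProduct.rightAlgebra

variable (R R' : Type u) [CommRing R] [CommRing R'] [Algebra R R'] (n : ℕ)

/-- The base change below the length, trivial beyond. -/
abbrev TrRing (A : ℕ → Type u) [∀ i, CommRing (A i)] [∀ i, Algebra R (A i)] (i : ℕ) : Type u :=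
  PLift (i < n) → R' ⊗[R] A i

/-- The base change below the length, the base ring beyond. -/
abbrev PdRing (B : ℕ → Type u) [∀ i, CommRing (B i)] [∀ i, Algebra R (B i)] (i : ℕ) : Type u :=
  (PLift (i < n) → R' ⊗[R] B i) × (PLift (¬ i < n) → R')

/-- The base changed modules below the length, trivial beyond. -/
def TrMod (A : ℕ → Type u) [∀ i, CommRing (A i)] [∀ i, Algebra R (A i)] (M : ℕ → Type u) [∀ i, AddCommGroup (M i)]
    [∀ i, Module (A i) (M i)] (i : ℕ) : Type u :=
  PLift (i < n) → (R' ⊗[R] A i) ⊗[A i] M i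

section TrMod

variable (A : ℕ → Type u) [∀ i, CommRing (A i)] [∀ i, Algebra R (A i)] (M : ℕ → Type u) [∀ i, AddCommGroup (M i)]
  [∀ i, Module (A i) (M i)] (i : ℕ)

noncomputable instance : AddCommGroup (TrMod R R' n A M i) :=
  inferInstanceAs (AddCommGroup (PLift (i < n) → (R' ⊗[R] A i) ⊗[A i] M i))

noncomputable instance : Module (TrRing R R' n A i) (TrMod R R' n A M i) :=
  inferInstanceAs (Module (PLift (i < n) → R' ⊗[R] A i) (PLift (i < n) → (R' ⊗[R] A i) ⊗[A i] M i))

noncomputable instance : Module (A i) (TrMod R R' n A M i) :=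
  inferInstanceAs (Module (A i) (PLift (i < n) → (R' ⊗[R] A i) ⊗[A i] M i))

noncomputable instance : Module R' (TrMod R R' n A M i) :=
  inferInstanceAs (Module R' (PLift (i < n) → (R' ⊗[R] A i) ⊗[A i] M i))

end TrMod

variable {n} (A : ℕ → Type u) [∀ i, CommRing (A i)] [∀ i, Algebra R (A i)]
  (B : ℕ → Type u) [∀ i, CommRing (B i)] [∀ i, Algebra R (B i)]

/-- Evaluation below the length. -/
noncomputable def trEquiv {i : ℕ} (hi : i < n) : TrRing R R' n A i ≃ₐ[R'] R' ⊗[R] A i where
  toFun f := f ⟨hi⟩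
  invFun x _ := x
  left_inv f := funext fun _ => congrArg f (Subsingleton.elim _ _)
  right_inv _ := rfl
  map_mul' _ _ := rfl
  map_add' _ _ := rfl
  commutes' _ := rfl

/-- Evaluation below the length. -/
noncomputable def pdEquiv {i : ℕ} (hi : i < n) : PdRing R R' n B i ≃ₐ[R'] R' ⊗[R] B i where
  toFun f := f.1 ⟨hi⟩
  invFun x := (fun _ => x, fun h => absurd hi h.down)
  left_inv f := Prod.ext (funext fun _ => congrArg f.1 (Subsingleton.elim _ _)) (funext fun h => absurd hi h.down)
  right_inv _ := rfl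
  map_mul' _ _ := rfl
  map_add' _ _ := rfl
  commutes' _ := rfl

/-- Evaluation beyond the length. -/
noncomputable def pdEquiv' {i : ℕ} (hi : ¬ i < n) : PdRing R R' n B i ≃ₐ[R'] R' where
  toFun f := f.2 ⟨hi⟩
  invFun x := (fun h => absurd h.down hi, fun _ => x)
  left_inv f := Prod.ext (funext fun h => absurd h.down hi) (funext fun _ => congrArg f.2 (Subsingleton.elim _ _))
  right_inv _ := rfl
  map_mul' _ _ := rfl
  map_add' _ _ := rfl
  commutes' _ := rfl

/-- The map from the smooth algebra. -/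
noncomputable def pdTo {i j : ℕ} (φ : B i →ₐ[R] A j) (h : j < n → i < n) :
    PdRing R R' n B i →+* TrRing R R' n A j :=
  RingHom.comp (Pi.ringHom fun k : PLift (j < n) =>
    (Algebra.TensorProduct.map (AlgHom.id R' R') φ).toRingHom.comp (Pi.evalRingHom _ ⟨h k.down⟩))
    (RingHom.fst _ _)

theorem pdTo_algebraMap {i j : ℕ} (φ : B i →ₐ[R] A j) (h : j < n → i < n) (r : R') :
    pdTo R R' A B φ h (algebraMap R' _ r) = algebraMap R' _ r := by
  funext k
  exact (Algebra.TensorProduct.map (AlgHom.id R' R') φ).commutes r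

/-- The algebra structure over the original smooth algebra. -/
noncomputable def fromB {i : ℕ} (hi : i < n) : B i →+* PdRing R R' n B i :=
  (Pi.ringHom fun _ : PLift (i < n) => (Algebra.TensorProduct.includeRight : B i →ₐ[R] R' ⊗[R] B i).toRingHom).prod
    (Pi.ringHom fun h : PLift (¬ i < n) => absurd hi h.down)

theorem pdEquiv_fromB {i : ℕ} (hi : i < n) (b : B i) : pdEquiv R R' B hi (fromB R R' B hi b) = (1 : R') ⊗ₜ[R] b := rfl

theorem pdTo_fromB {i j : ℕ} (φ : B i →ₐ[R] A j) (h : j < n → i < n) (hi : i < n) (b : B i) :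
    pdTo R R' A B φ h (fromB R R' B hi b) = fun _ => (1 : R') ⊗ₜ[R] φ b := by
  funext k
  exact Algebra.TensorProduct.map_tmul _ _ _ _

/-- The map from the base change of the first ring. -/
noncomputable def fromS {S S' : Type u} [CommRing S] [CommRing S'] [Algebra R S] [Algebra R' S'] [Algebra R S']
    [Algebra S S'] [IsScalarTower R R' S'] [IsScalarTower R S S'] [Algebra.IsPushout R R' S S']
    (φ : S →ₐ[R] A 0) : S' →+* TrRing R R' n A 0 :=
  Pi.ringHom fun _ => ((Algebra.TensorProduct.map (AlgHom.id R' R') φ).comp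
    (Algebra.IsPushout.equiv R R' S S').symm.toAlgHom).toRingHom

theorem isPushout_of_equiv {R R' A A' : Type u} [CommRing R] [CommRing R'] [CommRing A] [CommRing A'] [Algebra R R']
    [Algebra R A] [Algebra R' A'] [Algebra R A'] [Algebra A A'] [IsScalarTower R R' A'] [IsScalarTower R A A']
    (e : A' ≃ₐ[R'] R' ⊗[R] A) (he : ∀ a, e (algebraMap A A' a) = (1 : R') ⊗ₜ[R] a) : Algebra.IsPushout R R' A A' :=
  ⟨IsBaseChange.of_equiv e.symm.toLinearEquiv fun a => by
    show e.symm ((1 : R') ⊗ₜ[R] a) = algebraMap A A' a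
    rw [← he, AlgEquiv.symm_apply_apply]⟩

/-- The base change map into the truncated module. -/
noncomputable def trMk {M : ℕ → Type u} [∀ i, AddCommGroup (M i)] [∀ i, Module (A i) (M i)] (i : ℕ) :
    M i →ₗ[A i] TrMod R R' n A M i :=
  LinearMap.pi fun _ => TensorProduct.mk (A i) (R' ⊗[R] A i) (M i) 1

theorem isBaseChange_trMk {M : ℕ → Type u} [∀ i, AddCommGroup (M i)] [∀ i, Module (A i) (M i)] {i : ℕ} (hi : i < n)
    [IsScalarTower (A i) (TrRing R R' n A i) (TrMod R R' n A M i)] :
    IsBaseChange (TrRing R R' n A i) (trMk R R' A (n := n) (M := M) i) := by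
  let ev : TrRing R R' n A i ≃ₗ[A i] R' ⊗[R] A i :=
    { toFun := fun f => f ⟨hi⟩
      invFun := fun x _ => x
      left_inv := fun f => funext fun _ => congrArg f (Subsingleton.elim _ _)
      right_inv := fun _ => rfl
      map_add' := fun _ _ => rfl
      map_smul' := fun _ _ => rfl }
  let evM : TrMod R R' n A M i → (R' ⊗[R] A i) ⊗[A i] M i := fun f => f ⟨hi⟩
  have hev : Function.Injective evM := fun f g h => funext fun k => by rw [Subsingleton.elim k ⟨hi⟩]; exact h
  let L : TrRing R R' n A i ⊗[A i] M i →ₗ[TrRing R R' n A i] TrMod R R' n A M i :=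
    LinearMap.liftBaseChange _ (trMk R R' A (n := n) (M := M) i)
  let c := TensorProduct.congr ev (LinearEquiv.refl (A i) (M i))
  have key : ∀ z, evM (L z) = c z := fun z => by
    induction z using TensorProduct.induction_on with
    | zero => rw [map_zero, map_zero]; rfl
    | add a b ha hb => rw [map_add, map_add, ← ha, ← hb]; rfl
    | tmul a m =>
      simp only [L, LinearMap.liftBaseChange_tmul, c, TensorProduct.congr_tmul, LinearEquiv.refl_apply]
      show a ⟨hi⟩ • ((1 : R' ⊗[R] A i) ⊗ₜ[A i] m) = a ⟨hi⟩ ⊗ₜ[A i] m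
      rw [TensorProduct.smul_tmul', smul_eq_mul, mul_one]
  have hbij : Function.Bijective L := by
    refine ⟨fun a b h => c.injective (by rw [← key, ← key, h]), fun y => ?_⟩
    obtain ⟨z, hz⟩ := c.surjective (evM y)
    exact ⟨z, hev (by rw [key, hz])⟩
  exact IsBaseChange.of_equiv (LinearEquiv.ofBijective L hbij) fun m => by
    show L ((1 : TrRing R R' n A i) ⊗ₜ m) = _
    rw [LinearMap.liftBaseChange_tmul, one_smul]

end GrothLib.DevBC13
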