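import Groth.Agent.Lib.DevBC13.Dim
import Groth.Prelude.Def_FlatCA
import Mathlib.RingTheory.IsTensorProduct

/-!
The dimension of the support of a fibre module is invariant under base change.
-/

set_option autoImplicit false
universe u

open TensorProduct

attribute [local instance] Algebra.TensorProduct.rightAlgebra

namespace GrothLib.DevBC13

theorem supportDim_fiberMod_eq {R S : Type u} [CommRing R] [CommRing S] [Algebra R S] (p : Ideal R)
    [p.IsPrime] (N : Type u) [AddCommGroup N] [Module S N] [Module R N] [IsScalarTower R S N]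
    [Module.Finite S N] :
    Module.supportDim (p.Fiber S) (FlatCA.fiberMod p S N) =
      ringKrullDim (p.ResidueField ⊗[R] (S ⧸ Module.annihilator S N)) := by
  let π := Ideal.Quotient.mkₐ R (Module.annihilator S N)
  have hπ : Function.Surjective π := Ideal.Quotient.mkₐ_surjective R _
  let ψ := Algebra.TensorProduct.map (AlgHom.id R p.ResidueField) π
  refine supportDim_eq_of_surjective ψ.toRingHom (TensorProduct.map_surjective Function.surjective_id hπ) ?_
  show Module.support (p.Fiber S) ((p.Fiber S) ⊗[S] N) = _
  rw [support_tensor, Module.support_eq_zeroLocus, PrimeSpectrum.preimage_comap_zeroLocus,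
    ← PrimeSpectrum.zeroLocus_span]
  congr 2
  show Ideal.map _ _ = RingHom.ker ψ
  rw [Algebra.TensorProduct.lTensor_ker _ hπ,
    show RingHom.ker π = Module.annihilator S N from Ideal.Quotient.mkₐ_ker R _]
  rfl

variable {R S R' S' : Type u} [CommRing R] [CommRing S] [Algebra R S] [Algebra.FiniteType R S]
  [CommRing R'] [CommRing S'] [Algebra R R'] [Algebra R' S'] [Algebra R S'] [Algebra S S']
  [IsScalarTower R R' S'] [IsScalarTower R S S'] [Algebra.IsPushout R R' S S']
  (p : Ideal R) [p.IsPrime] (p' : Ideal R') [p'.IsPrime] [p'.LiesOver p]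

theorem supportDim_fiberMod_baseChange
    (N : Type u) [AddCommGroup N] [Module S N] [Module R N] [IsScalarTower R S N] [Module.Finite S N]
    (N' : Type u) [AddCommGroup N'] [Module S' N'] [Module R' N'] [IsScalarTower R' S' N']
    [Module S N'] [IsScalarTower S S' N'] (f : N →ₗ[S] N') (hf : IsBaseChange S' f) :
    Module.supportDim (p'.Fiber S') (FlatCA.fiberMod p' S' N') =
      Module.supportDim (p.Fiber S) (FlatCA.fiberMod p S N) := by
  let κ := p.ResidueField
  let κ' := p'.ResidueField
  let I := Module.annihilator S N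
  letI : Algebra κ κ' := (Ideal.ResidueField.mapₐ p p' (Algebra.ofId R R')
    (Ideal.LiesOver.over (P := p') (p := p))).toRingHom.toAlgebra
  haveI : IsScalarTower R κ κ' := IsScalarTower.of_algebraMap_eq fun x => by
    rw [RingHom.algebraMap_toAlgebra]
    exact ((Ideal.ResidueField.mapₐ p p' (Algebra.ofId R R')
      (Ideal.LiesOver.over (P := p') (p := p))).commutes x).symm
  let π := Ideal.Quotient.mkₐ R I
  have hπ : Function.Surjective π := Ideal.Quotient.mkₐ_surjective R _
  let ψ := Algebra.TensorProduct.map (AlgHom.id R κ') π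
  let E : κ' ⊗[R'] S' ≃ₐ[κ'] κ' ⊗[R] S :=
    (Algebra.TensorProduct.congr AlgEquiv.refl (Algebra.IsPushout.equiv R R' S S').symm).trans
      (Algebra.TensorProduct.cancelBaseChange R R' κ' κ' S)
  have hE : E.toRingHom.comp ((algebraMap S' (κ' ⊗[R'] S')).comp (algebraMap S S')) =
      (Algebra.TensorProduct.includeRight (R := R) (A := κ') (B := S)).toRingHom := by
    ext s
    simp [E, RingHom.algebraMap_toAlgebra, Algebra.IsPushout.equiv_symm_algebraMap_right]
  haveI : Module.Finite S' N' := Module.Finite.equiv hf.equiv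
  have hdim : Module.supportDim (p'.Fiber S') (FlatCA.fiberMod p' S' N') = ringKrullDim (κ' ⊗[R] (S ⧸ I)) := by
    refine supportDim_eq_of_surjective (ψ.toRingHom.comp E.toRingHom)
      ((TensorProduct.map_surjective Function.surjective_id hπ).comp E.surjective) ?_
    show Module.support (p'.Fiber S') ((p'.Fiber S') ⊗[S'] N') = _
    rw [support_tensor, ← hf.equiv.support_eq, support_tensor, Module.support_eq_zeroLocus,
      PrimeSpectrum.preimage_comap_zeroLocus, PrimeSpectrum.preimage_comap_zeroLocus, ← Set.image_comp,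
      ← RingHom.coe_comp, ← PrimeSpectrum.zeroLocus_span]
    congr 2
    show Ideal.map _ _ = (RingHom.ker ψ).comap E.toRingHom
    rw [Algebra.TensorProduct.lTensor_ker _ hπ,
      show RingHom.ker π = I from Ideal.Quotient.mkₐ_ker R _]
    refine Eq.trans ?_ (congrArg (Ideal.comap E.toRingHom)
      (show I.map (E.toRingHom.comp ((algebraMap S' (κ' ⊗[R'] S')).comp (algebraMap S S'))) =
        I.map (Algebra.TensorProduct.includeRight (R := R) (A := κ') (B := S)) by rw [hE]; rfl))
    simp only [← Ideal.map_map]
    exact (Ideal.comap_map_of_bijective E.toRingHom E.bijective).symm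
  rw [hdim, supportDim_fiberMod_eq]
  haveI : Algebra.FiniteType R (S ⧸ I) := ‹Algebra.FiniteType R S›.of_surjective π hπ
  rw [← ringKrullDim_baseChange κ κ' (κ ⊗[R] (S ⧸ I))]
  exact (ringKrullDim_eq_of_ringEquiv
    (Algebra.TensorProduct.cancelBaseChange R κ κ' κ' (S ⧸ I)).toRingEquiv).symm

end GrothLib.DevBC13
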