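import Groth.Agent.Lib.DevBC13.Fibre
import Groth.Agent.Lib.WeakAssFib.Fibre
import Groth.Agent.Lib.RG6.Dev.Subscheme
import Mathlib.RingTheory.LocalRing.ResidueField.Fiber
import Mathlib.RingTheory.Spectrum.Prime.Topology
import Mathlib.RingTheory.Localization.FractionRing

/-!
Fibres are unchanged by a base change with trivial residue extension.
-/

set_option autoImplicit false
set_option linter.unusedSectionVars false
universe u

open TensorProduct

attribute [local instance] Algebra.TensorProduct.rightAlgebra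

namespace GrothLib.DevBC13

open GrothLib.WeakAssFib

variable {R S R' S' : Type u} [CommRing R] [CommRing S] [Algebra R S]
  [CommRing R'] [CommRing S'] [Algebra R R'] [Algebra R' S'] [Algebra R S'] [Algebra S S']
  [IsScalarTower R R' S'] [IsScalarTower R S S'] [Algebra.IsPushout R R' S S']
  (p : Ideal R) [p.IsPrime] (p' : Ideal R') [p'.IsPrime] [hp' : p'.LiesOver p]
  (hκ : Function.Bijective (Ideal.ResidueField.mapₐ p p' (Algebra.ofId R R') hp'.over))

include hκ in
/-- The fibre rings are isomorphic. -/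
theorem exists_fibre_ringEquiv : ∃ e : p.Fiber S ≃+* p'.Fiber S',
    ∀ s, e (toFib p s) = toFib p' (algebraMap S S' s) := by
  let a : p.ResidueField ≃ₐ[R] p'.ResidueField := AlgEquiv.ofBijective _ hκ
  let E : p'.ResidueField ⊗[R'] S' ≃ₐ[p'.ResidueField] p'.ResidueField ⊗[R] S :=
    (Algebra.TensorProduct.congr AlgEquiv.refl (Algebra.IsPushout.equiv R R' S S').symm).trans
      (Algebra.TensorProduct.cancelBaseChange R R' p'.ResidueField p'.ResidueField S)
  have hE : ∀ s, E (toFib p' (algebraMap S S' s)) = (1 : p'.ResidueField) ⊗ₜ[R] s := fun s => by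
    simp [E, toFib, Algebra.IsPushout.equiv_symm_algebraMap_right]
  refine ⟨(Algebra.TensorProduct.congr a (AlgEquiv.refl : S ≃ₐ[R] S)).toRingEquiv.trans E.toRingEquiv.symm,
    fun s => ?_⟩
  show E.symm ((Algebra.TensorProduct.congr a (AlgEquiv.refl : S ≃ₐ[R] S)) (toFib p s)) = _
  rw [AlgEquiv.symm_apply_eq, hE]
  simp [toFib]

/-- A prime over `p` gives a point of the fibre ring. -/
theorem exists_fibre_point (q : Ideal S) [q.IsPrime] [q.LiesOver p] :
    ∃ P : PrimeSpectrum (p.Fiber S), P.asIdeal.comap (toFib p) = q ∧ P.asIdeal = FlatCA.fiberIdeal p q := by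
  let Q : p.primesOver S := ⟨q, ⟨‹_›, ‹_›⟩⟩
  have h : (PrimeSpectrum.primesOverOrderIsoFiber R S p Q).asIdeal.comap (toFib p) = q := by
    have h1 := congrArg Subtype.val ((PrimeSpectrum.primesOverOrderIsoFiber R S p).symm_apply_apply Q)
    rw [PrimeSpectrum.coe_primesOverOrderIsoFiber_symm_apply] at h1
    exact h1
  refine ⟨_, h, ?_⟩
  have := fiberIdeal_comap p (PrimeSpectrum.primesOverOrderIsoFiber R S p Q).asIdeal
  rw [h] at this
  exact this.symm

include hκ in
/-- At most one prime over given points. -/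
theorem eq_of_liesOver (q : Ideal S) (q₁ q₂ : Ideal S') [q₁.IsPrime] [q₂.IsPrime] [q₁.LiesOver q] [q₂.LiesOver q]
    [q₁.LiesOver p'] [q₂.LiesOver p'] : q₁ = q₂ := by
  obtain ⟨e, he⟩ := exists_fibre_ringEquiv (S := S) (S' := S') p p' hκ
  obtain ⟨P₁, h1, -⟩ := exists_fibre_point p' q₁
  obtain ⟨P₂, h2, -⟩ := exists_fibre_point p' q₂
  have key : ∀ (q' : Ideal S') [q'.LiesOver q] (P : PrimeSpectrum (p'.Fiber S')), P.asIdeal.comap (toFib p') = q' →
      P.asIdeal.comap e.toRingHom = FlatCA.fiberIdeal p q := by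
    intro q' _ P hP
    have h3 : (P.asIdeal.comap e.toRingHom).comap (toFib p) = q := by
      ext s
      show e (toFib p s) ∈ P.asIdeal ↔ s ∈ q
      rw [he, ← Ideal.mem_comap, hP, Ideal.mem_of_liesOver q' q s]
    have := fiberIdeal_comap p (P.asIdeal.comap e.toRingHom)
    rw [h3] at this
    exact this.symm
  have h := (key q₁ P₁ h1).trans (key q₂ P₂ h2).symm
  have : P₁.asIdeal = P₂.asIdeal := Ideal.comap_injective_of_surjective e.toRingHom e.surjective h
  rw [← h1, ← h2, this]

include hκ in
/-- The residue field extension at a point is trivial. -/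
theorem bijective_residueField (q : Ideal S) [q.IsPrime] [hqp : q.LiesOver p] (q' : Ideal S') [q'.IsPrime]
    [hq : q'.LiesOver q] [hqp' : q'.LiesOver p'] :
    Function.Bijective (Ideal.ResidueField.mapₐ q q' (Algebra.ofId S S') hq.over) := by
  set b := Ideal.ResidueField.mapₐ q q' (Algebra.ofId S S') hq.over
  refine ⟨b.toRingHom.injective, fun z => ?_⟩
  let c := Ideal.ResidueField.mapₐ p q (Algebra.ofId R S) hqp.over
  let c' := Ideal.ResidueField.mapₐ p' q' (Algebra.ofId R' S') hqp'.over
  let a := Ideal.ResidueField.mapₐ p p' (Algebra.ofId R R') hp'.over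
  have hbc : b.toRingHom.comp c.toRingHom = c'.toRingHom.comp a.toRingHom :=
    Ideal.ResidueField.ringHom_ext (RingHom.ext fun r => by
      show b (c (algebraMap R p.ResidueField r)) = c' (a (algebraMap R p.ResidueField r))
      rw [AlgHom.commutes, AlgHom.commutes, IsScalarTower.algebraMap_apply R S q.ResidueField, AlgHom.commutes,
        IsScalarTower.algebraMap_apply R R' p'.ResidueField, AlgHom.commutes,
        IsScalarTower.algebraMap_apply S S' q'.ResidueField, IsScalarTower.algebraMap_apply R' S' q'.ResidueField,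
        ← IsScalarTower.algebraMap_apply R S S', ← IsScalarTower.algebraMap_apply R R' S'])
  have hS' : ∀ x : S', algebraMap S' q'.ResidueField x ∈ b.toRingHom.fieldRange := fun x => by
    obtain ⟨t, rfl⟩ := (Algebra.IsPushout.equiv R R' S S').surjective x
    induction t using TensorProduct.induction_on with
    | zero => rw [map_zero, map_zero]; exact zero_mem _
    | tmul r s =>
      rw [Algebra.IsPushout.equiv_tmul, map_mul]
      refine mul_mem ?_ ⟨algebraMap S q.ResidueField s, ?_⟩
      · obtain ⟨w, hw⟩ := hκ.2 (algebraMap R' p'.ResidueField r)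
        refine ⟨c w, ?_⟩
        show (b.toRingHom.comp c.toRingHom) w = _
        rw [hbc]
        show c' (a w) = _
        rw [hw, AlgHom.commutes, ← IsScalarTower.algebraMap_apply R' S' q'.ResidueField]
      · show b (algebraMap S q.ResidueField s) = _
        rw [AlgHom.commutes, ← IsScalarTower.algebraMap_apply S S' q'.ResidueField]
    | add x y hx hy => rw [map_add, map_add]; exact add_mem hx hy
  obtain ⟨x, y, -, rfl⟩ := IsFractionRing.div_surjective (S' ⧸ q') z
  obtain ⟨x, rfl⟩ := Ideal.Quotient.mk_surjective x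
  obtain ⟨y, rfl⟩ := Ideal.Quotient.mk_surjective y
  have := div_mem (hS' x) (hS' y)
  rwa [IsScalarTower.algebraMap_apply S' (S' ⧸ q') q'.ResidueField,
    IsScalarTower.algebraMap_apply S' (S' ⧸ q') q'.ResidueField] at this

include hκ in
/-- The local dimension of the support of the fibre module is unchanged. -/
theorem localDim_baseChange (N : Type u) [AddCommGroup N] [Module S N] [Module.Finite S N]
    (N' : Type u) [AddCommGroup N'] [Module S' N'] [Module S N'] [IsScalarTower S S' N']
    (f : N →ₗ[S] N') (hf : IsBaseChange S' f)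
    (q : Ideal S) [q.IsPrime] [q.LiesOver p] (q' : Ideal S') [q'.IsPrime] [q'.LiesOver q] [q'.LiesOver p']
    (n : WithBot ℕ∞)
    (h1 : ∃ (ξ : PrimeSpectrum (p.Fiber S)) (hξ : ξ ∈ Module.support (p.Fiber S) (FlatCA.fiberMod p S N)),
      ξ.asIdeal = FlatCA.fiberIdeal p q ∧
      FlatMor.localDim (Module.support (p.Fiber S) (FlatCA.fiberMod p S N)) ⟨ξ, hξ⟩ = n) :
    ∃ (ξ' : PrimeSpectrum (p'.Fiber S')) (hξ' : ξ' ∈ Module.support (p'.Fiber S') (FlatCA.fiberMod p' S' N')),
      ξ'.asIdeal = FlatCA.fiberIdeal p' q' ∧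
      FlatMor.localDim (Module.support (p'.Fiber S') (FlatCA.fiberMod p' S' N')) ⟨ξ', hξ'⟩ = n := by
  obtain ⟨e, he⟩ := exists_fibre_ringEquiv (S := S) (S' := S') p p' hκ
  obtain ⟨ξ, hξ, hξq, hdim⟩ := h1
  obtain ⟨P, hP, hP'⟩ := exists_fibre_point p' q'
  haveI : Module.Finite S' N' := Module.Finite.equiv hf.equiv
  let h : PrimeSpectrum (p'.Fiber S') ≃ₜ PrimeSpectrum (p.Fiber S) := PrimeSpectrum.homeomorphOfRingEquiv e.symm
  have hh : ∀ x, (h x).asIdeal = x.asIdeal.comap e.toRingHom := fun x => rfl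
  have hmem : ∀ x, x ∈ Module.support (p'.Fiber S') (FlatCA.fiberMod p' S' N') ↔
      h x ∈ Module.support (p.Fiber S) (FlatCA.fiberMod p S N) := fun x => by
    show x ∈ Module.support (p'.Fiber S') ((p'.Fiber S') ⊗[S'] N') ↔ h x ∈ Module.support (p.Fiber S) ((p.Fiber S) ⊗[S] N)
    rw [support_tensor, support_tensor, Set.mem_preimage, Set.mem_preimage, ← hf.equiv.support_eq, support_tensor,
      Set.mem_preimage]
    refine iff_of_eq (congrArg (· ∈ Module.support S N) (PrimeSpectrum.ext (Ideal.ext fun s => ?_)))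
    show toFib p' (algebraMap S S' s) ∈ x.asIdeal ↔ e (toFib p s) ∈ x.asIdeal
    rw [he]
  have hPξ : h P = ξ := by
    refine PrimeSpectrum.ext ?_
    rw [hh, hξq]
    have h3 : (P.asIdeal.comap e.toRingHom).comap (toFib p) = q := by
      ext s
      show e (toFib p s) ∈ P.asIdeal ↔ s ∈ q
      rw [he, ← Ideal.mem_comap, hP, Ideal.mem_of_liesOver q' q s]
    have := fiberIdeal_comap p (P.asIdeal.comap e.toRingHom)
    rw [h3] at this
    exact this.symm
  refine ⟨P, (hmem P).2 (hPξ ▸ hξ), hP', ?_⟩
  let H : Module.support (p'.Fiber S') (FlatCA.fiberMod p' S' N') ≃ₜ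
      Module.support (p.Fiber S) (FlatCA.fiberMod p S N) := h.subtype hmem
  rw [← hdim, ← GrothLib.RG6.Dev.localDim_homeo H]
  congr 1
  exact Subtype.ext hPξ

end GrothLib.DevBC13
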