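import Mathlib

/-!
Generic lemmas for the base change of one step of a complete dévissage.
-/

set_option autoImplicit false
set_option linter.unusedSectionVars false
universe u

open TensorProduct

namespace GrothLib.DevBC13

/-- Bijectivity after base change in two steps. -/
theorem baseChange_baseChange_bijective_iff {B T C M N : Type u} [CommRing B] [CommRing T] [CommRing C] [Algebra B T]
    [Algebra B C] [Algebra T C] [IsScalarTower B T C] [AddCommGroup M] [Module B M] [AddCommGroup N] [Module B N]
    (α : M →ₗ[B] N) :
    Function.Bijective ((α.baseChange T).baseChange C) ↔ Function.Bijective (α.baseChange C) := by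
  let eM := AlgebraTensorModule.cancelBaseChange B T C C M
  let eN := AlgebraTensorModule.cancelBaseChange B T C C N
  have h : ⇑((α.baseChange T).baseChange C) = eN.symm ∘ (α.baseChange C) ∘ eM := by
    funext z
    refine (LinearEquiv.eq_symm_apply eN).2 ?_
    induction z using TensorProduct.induction_on with
    | zero => simp
    | add a b ha hb => simp only [map_add, ha, hb, Function.comp_apply]
    | tmul c y =>
      induction y using TensorProduct.induction_on with
      | zero => simp
      | add a b ha hb => simp only [tmul_add, map_add, ha, hb, Function.comp_apply]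
      | tmul t m => simp [eM, eN]
  rw [h, eN.symm.bijective.of_comp_iff' _]
  exact Function.Bijective.of_comp_iff (α.baseChange C) eM.bijective

section

variable {B B' M M' : Type u} [CommRing B] [CommRing B'] [Algebra B B'] [AddCommGroup M] [Module B M]
  [AddCommGroup M'] [Module B' M'] [Module B M'] [IsScalarTower B B' M'] (g : M →ₗ[B] M') {r : ℕ}
  (α : (Fin r → B) →ₗ[B] M)

/-- The base changed map from a finite free module. -/
noncomputable def alphaBC : (Fin r → B') →ₗ[B'] M' :=
  Fintype.linearCombination B' fun k => g (α (Pi.single k 1))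

theorem range_alphaBC :
    LinearMap.range (alphaBC (B' := B') g α) = Submodule.span B' (g '' (LinearMap.range α : Set M)) := by
  rw [alphaBC, Fintype.range_linearCombination]
  refine le_antisymm (Submodule.span_mono (Set.range_subset_iff.2 fun k => ⟨_, LinearMap.mem_range_self α _, rfl⟩))
    (Submodule.span_le.2 ?_)
  rintro _ ⟨_, ⟨v, rfl⟩, rfl⟩
  rw [pi_eq_sum_univ' v, map_sum, map_sum]
  refine Submodule.sum_mem _ fun k _ => ?_
  rw [map_smul, map_smul, ← algebraMap_smul B' (v k)]
  exact Submodule.smul_mem _ _ (Submodule.subset_span ⟨k, rfl⟩)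

variable {g} (hg : IsBaseChange B' g)

include hg

theorem alphaBC_eq : alphaBC (B' := B') g α =
    hg.equiv.toLinearMap ∘ₗ α.baseChange B' ∘ₗ (TensorProduct.piScalarRight B B' B' (Fin r)).symm.toLinearMap := by
  refine LinearMap.pi_ext' fun k => LinearMap.ext_ring ?_
  simp [alphaBC, Fintype.linearCombination_apply_single, IsBaseChange.equiv_tmul]

theorem alphaBC_surjective (h : Function.Surjective α) : Function.Surjective (alphaBC (B' := B') g α) := by
  rw [alphaBC_eq α hg]
  exact hg.equiv.surjective.comp ((LinearMap.lTensor_surjective B' h).comp (LinearEquiv.surjective _))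

theorem alphaBC_baseChange_bijective (κ κ' : Type u) [CommRing κ] [CommRing κ'] [Algebra B κ] [Algebra B κ']
    [Algebra κ κ'] [IsScalarTower B κ κ'] [Algebra B' κ'] [IsScalarTower B B' κ']
    (h : Function.Bijective (α.baseChange κ)) :
    Function.Bijective ((alphaBC (B' := B') g α).baseChange κ') := by
  let e1 := LinearEquiv.ofBijective _ h
  have h1 : Function.Bijective ((α.baseChange κ).baseChange κ') :=
    (AlgebraTensorModule.congr (LinearEquiv.refl κ' κ') e1).bijective
  have h2 := (baseChange_baseChange_bijective_iff (T := B') (C := κ') α).2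
    ((baseChange_baseChange_bijective_iff (T := κ) (C := κ') α).1 h1)
  rw [alphaBC_eq α hg, LinearMap.baseChange_comp, LinearMap.baseChange_comp]
  exact ((AlgebraTensorModule.congr (LinearEquiv.refl κ' κ') hg.equiv).bijective.comp h2).comp
    (AlgebraTensorModule.congr (LinearEquiv.refl κ' κ') (TensorProduct.piScalarRight B B' B' (Fin r)).symm).bijective

variable {M₁ M₁' : Type u} [AddCommGroup M₁] [Module B M₁] [AddCommGroup M₁'] [Module B' M₁'] [Module B M₁']
  [IsScalarTower B B' M₁'] {g₁ : M₁ →ₗ[B] M₁'} (hg₁ : IsBaseChange B' g₁)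

include hg₁

/-- The cokernel of the base changed map is the base change of the cokernel. -/
theorem exists_coker_equiv (π : M →ₗ[B] M₁) (hπ : Function.Surjective π) (hex : Function.Exact α π) :
    Nonempty ((M' ⧸ LinearMap.range (alphaBC (B' := B') g α)) ≃ₗ[B'] M₁') := by
  let π' : M' →ₗ[B'] M₁' := hg₁.equiv.toLinearMap ∘ₗ π.baseChange B' ∘ₗ hg.equiv.symm.toLinearMap
  have hs : Function.Surjective π' :=
    hg₁.equiv.surjective.comp ((LinearMap.lTensor_surjective B' hπ).comp hg.equiv.symm.surjective)
  have hk : LinearMap.ker π' = LinearMap.range (alphaBC (B' := B') g α) := by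
    ext y
    rw [LinearMap.mem_ker, LinearMap.mem_range]
    show hg₁.equiv (π.baseChange B' (hg.equiv.symm y)) = 0 ↔ _
    rw [LinearEquiv.map_eq_zero_iff]
    refine (lTensor_exact B' hex hπ _).trans ?_
    rw [alphaBC_eq α hg]
    constructor
    · rintro ⟨w, hw⟩
      refine ⟨TensorProduct.piScalarRight B B' B' (Fin r) w, ?_⟩
      simp only [LinearMap.comp_apply, LinearEquiv.coe_coe, LinearEquiv.symm_apply_apply]
      exact (congrArg hg.equiv hw).trans (hg.equiv.apply_symm_apply y)
    · rintro ⟨w, rfl⟩
      exact ⟨_, (hg.equiv.symm_apply_apply _).symm⟩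
  exact ⟨Submodule.quotEquivOfEq _ _ hk.symm ≪≫ₗ π'.quotKerEquivOfSurjective hs⟩

end

section Pushout

variable {R R' B B' A A' : Type u} [CommRing R] [CommRing R'] [CommRing B] [CommRing B'] [CommRing A] [CommRing A']
  [Algebra R R'] [Algebra R B] [Algebra R' B'] [Algebra B B'] [Algebra R B']
  [IsScalarTower R R' B'] [IsScalarTower R B B'] [Algebra R A] [Algebra R' A'] [Algebra A A'] [Algebra R A']
  [IsScalarTower R R' A'] [IsScalarTower R A A'] [Algebra B A] [IsScalarTower R B A] [Algebra B' A']
  [IsScalarTower R' B' A'] [Algebra B A'] [IsScalarTower B A A'] [IsScalarTower B B' A']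
  [Algebra.IsPushout R R' B B'] [Algebra.IsPushout R R' A A']

variable (R R')
include R R'

theorem isPushout_right : Algebra.IsPushout B B' A A' := by
  haveI : Algebra.IsPushout R B R' B' := Algebra.IsPushout.symm inferInstance
  haveI : IsScalarTower R B' A' := IsScalarTower.of_algebraMap_eq fun r => by
    rw [IsScalarTower.algebraMap_apply R R' A', IsScalarTower.algebraMap_apply R' B' A',
      ← IsScalarTower.algebraMap_apply R R' B']
  exact Algebra.IsPushout.symm
    ((Algebra.IsPushout.comp_iff R B R' B').1 (Algebra.IsPushout.symm (inferInstance : Algebra.IsPushout R R' A A')))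

theorem surjective_bc (h : Function.Surjective (algebraMap B A)) : Function.Surjective (algebraMap B' A') := by
  haveI := isPushout_right R R' (B := B) (B' := B') (A := A) (A' := A')
  intro c
  obtain ⟨t, rfl⟩ := (Algebra.IsPushout.equiv B B' A A').surjective c
  induction t using TensorProduct.induction_on with
  | zero => exact ⟨0, by simp⟩
  | tmul a b =>
    obtain ⟨s, rfl⟩ := h b
    exact ⟨a * algebraMap B B' s, by
      rw [Algebra.IsPushout.equiv_tmul, map_mul, ← IsScalarTower.algebraMap_apply, ← IsScalarTower.algebraMap_apply]⟩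
  | add x y hx hy =>
    obtain ⟨a, ha⟩ := hx
    obtain ⟨b, hb⟩ := hy
    exact ⟨a + b, by rw [map_add, map_add, ha, hb]⟩

theorem finitePresentation_bc [Algebra.FinitePresentation B A] : Algebra.FinitePresentation B' A' :=
  haveI := isPushout_right R R' (B := B) (B' := B') (A := A) (A' := A')
  Algebra.FinitePresentation.equiv (Algebra.IsPushout.equiv B B' A A')

theorem finite_bc [Module.Finite B A] : Module.Finite B' A' :=
  haveI := isPushout_right R R' (B := B) (B' := B') (A := A) (A' := A')
  Module.Finite.equiv (Algebra.IsPushout.equiv B B' A A').toLinearEquiv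

end Pushout

end GrothLib.DevBC13
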